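import Groth.Agent.PurWLib.Reduce
import Groth.Agent.PurBirLib.Main

/-!
# Purity under condition (W): non-local-isomorphism locus
-/

set_option autoImplicit false
set_option maxHeartbeats 1600000
set_option maxRecDepth 8000
set_option linter.style.haveILetI false
set_option backward.isDefEq.respectTransparency false
universe u

open CategoryTheory CategoryTheory.Limits AlgebraicGeometry TopologicalSpace

noncomputable section

namespace PurWLib

/-- `g` is a local isomorphism near `x`. -/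
def LIso {X Y : Scheme.{u}} (g : X ⟶ Y) (x : X) : Prop := ∃ W : X.Opens, x ∈ W ∧ IsLocalIso (W.ι ≫ g)

theorem exists_open_immersion {X Y : Scheme.{u}} {g : X ⟶ Y} {x : X} (h : LIso g x) :
    ∃ W : X.Opens, x ∈ W ∧ IsOpenImmersion (W.ι ≫ g) := by
  obtain ⟨W, hx, hW⟩ := h
  obtain ⟨U, hU, hUi⟩ := IsLocalIso.exists_isOpenImmersion (f := W.ι ≫ g) ⟨x, hx⟩
  refine ⟨W.ι ''ᵁ U, ⟨⟨x, hx⟩, hU, rfl⟩, ?_⟩
  have e : (W.ι ''ᵁ U).ι ≫ g = (W.ι.isoImage U).inv ≫ U.ι ≫ W.ι ≫ g := by
    rw [Scheme.Hom.isoImage_inv_ι_assoc]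
  rw [e]
  infer_instance

theorem injective_of_isSeparated {Z Y : Scheme.{u}} [IrreducibleSpace Z] (h : Z ⟶ Y) [IsSeparated h]
    [IsLocalIso h] : Function.Injective h := by
  intro x₁ x₂ heq
  obtain ⟨c, hc₁, hc₂⟩ := Scheme.Pullback.exists_preimage_pullback (f := h) (g := h) x₁ x₂ heq
  obtain ⟨W₁, h₁, i₁⟩ := IsLocalIso.exists_isOpenImmersion (f := h) x₁
  obtain ⟨W₂, h₂, i₂⟩ := IsLocalIso.exists_isOpenImmersion (f := h) x₂
  haveI : IsLocalIso (pullback.fst h h) := MorphismProperty.pullback_fst (P := @IsLocalIso) h h inferInstance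
  obtain ⟨U, hcU, iU⟩ := IsLocalIso.exists_isOpenImmersion (f := pullback.fst h h) c
  let ξ := genericPoint Z
  obtain ⟨d, hd⟩ : ξ ∈ Set.range (U.ι ≫ pullback.fst h h) :=
    ((genericPoint_spec Z).specializes (Set.mem_univ _)).mem_open (U.ι ≫ pullback.fst h h).isOpenEmbedding.isOpen_range
      ⟨⟨c, hcU⟩, rfl⟩
  have hdc : (U.ι d : ↥(pullback h h)) ⤳ c := by
    refine Specializes.map ?_ U.ι.continuous (y := ⟨c, hcU⟩)
    refine (U.ι ≫ pullback.fst h h).isOpenEmbedding.isInducing.specializes_iff.1 ?_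
    rw [hd]
    exact (genericPoint_spec Z).specializes (Set.mem_univ _)
  have hξ₁ : ξ ∈ W₁ := ((genericPoint_spec Z).specializes (Set.mem_univ _)).mem_open W₁.2 h₁
  have hξ₂ : ξ ∈ W₂ := ((genericPoint_spec Z).specializes (Set.mem_univ _)).mem_open W₂.2 h₂
  have hf : pullback.fst h h (U.ι d) = ξ := hd
  have hs : pullback.snd h h (U.ι d) = ξ := by
    let b := pullback.snd h h (U.ι d)
    obtain ⟨W, hbW, iW⟩ := IsLocalIso.exists_isOpenImmersion (f := h) b
    have hξW : ξ ∈ W := ((genericPoint_spec Z).specializes (Set.mem_univ _)).mem_open W.2 hbW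
    have e : h b = h ξ := by
      rw [← hf]
      exact (congrArg (fun φ : pullback h h ⟶ Y => φ (U.ι d)) pullback.condition).symm
    exact congrArg Subtype.val ((W.ι ≫ h).isOpenEmbedding.injective (a₁ := ⟨b, hbW⟩) (a₂ := ⟨ξ, hξW⟩) e)
  obtain ⟨K, hK, a, ha⟩ : ∃ (K : Scheme.{u}) (_ : Unique K) (a : K ⟶ pullback h h),
      Set.range a = {U.ι d} :=
    ⟨_, inferInstanceAs (Unique (PrimeSpectrum _)), (pullback h h).fromSpecResidueField (U.ι d), Scheme.range_fromSpecResidueField _⟩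
  have hmem : ∀ s : K, a s = U.ι d := fun s => by
    have : a s ∈ ({U.ι d} : Set _) := ha ▸ Set.mem_range_self s
    exact this
  let l₁ := IsOpenImmersion.lift W₁.ι (a ≫ pullback.fst h h) (by
    rintro _ ⟨s, rfl⟩
    rw [Scheme.Opens.range_ι, Scheme.Hom.comp_apply, hmem, hf]
    exact hξ₁)
  let l₂ := IsOpenImmersion.lift W₁.ι (a ≫ pullback.snd h h) (by
    rintro _ ⟨s, rfl⟩
    rw [Scheme.Opens.range_ι, Scheme.Hom.comp_apply, hmem, hs]
    exact hξ₁)
  have hl : l₁ = l₂ := by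
    rw [← cancel_mono (W₁.ι ≫ h)]
    simp only [l₁, l₂, IsOpenImmersion.lift_fac_assoc, Category.assoc, pullback.condition]
  have hdiag : a = (a ≫ pullback.fst h h) ≫ pullback.diagonal h := by
    apply pullback.hom_ext
    · simp [pullback.diagonal]
    · simp only [Category.assoc, pullback.diagonal_snd, Category.comp_id]
      have := congrArg (· ≫ W₁.ι) hl
      simpa only [l₁, l₂, IsOpenImmersion.lift_fac] using this.symm
  have hdr : (U.ι d : ↥(pullback h h)) ∈ Set.range (pullback.diagonal h) := by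
    refine ⟨(a ≫ pullback.fst h h) default, ?_⟩
    rw [← Scheme.Hom.comp_apply, ← hdiag, hmem]
  obtain ⟨e, he⟩ := hdc.mem_closed (pullback.diagonal h).isClosedEmbedding.isClosed_range hdr
  rw [← hc₁, ← hc₂, ← he, ← Scheme.Hom.comp_apply, ← Scheme.Hom.comp_apply, pullback.diagonal_fst,
    pullback.diagonal_snd]

variable {X Y : Scheme.{u}} (g : X ⟶ Y)

theorem isClosed_fibre_of_lIso [LocallyOfFiniteType g] {w z : X} (hw : LIso g w) (hwz : w ⤳ z)
    (hg : g w = g z) : z = w := by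
  obtain ⟨W, hwW, hW⟩ := exists_open_immersion hw
  have hq : g.QuasiFiniteAt w :=
    (Scheme.Hom.quasiFiniteAt_comp_iff_of_isOpenImmersion (f := W.ι) (x := ⟨w, hwW⟩)).1
      ((W.ι ≫ g).quasiFiniteAt _)
  have hc := (hq.isClopen_singleton_asFiber).1
  have hc' : IsClosed ({⟨w, rfl⟩} : Set (g ⁻¹' {g w})) := by
    have := (g.fiberHomeo (g w)).isClosed_image.2 hc
    rwa [Set.image_singleton, Scheme.Hom.asFiber, Homeomorph.apply_symm_apply] at this
  have hsp : (⟨w, rfl⟩ : g ⁻¹' {g w}) ⤳ ⟨z, hg.symm⟩ := Topology.IsInducing.subtypeVal.specializes_iff.1 hwz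
  have hz : (⟨z, hg.symm⟩ : g ⁻¹' {g w}) ∈ ({⟨w, rfl⟩} : Set (g ⁻¹' {g w})) := hsp.mem_closed hc' (Set.mem_singleton _)
  exact congrArg Subtype.val hz

theorem dim_le_one_of_not_lIso [IsLocallyNoetherian X] [IsLocallyNoetherian Y] [IrreducibleSpace X]
    [LocallyOfFiniteType g] (z : X) (hz : ¬ LIso g z)
    (hmax : ∀ z' : X, ¬ LIso g z' → z' ⤳ z → z' = z) (hW : CondW (Y.presheaf.stalk (g z))) :
    ringKrullDim (X.presheaf.stalk z) ≤ 1 ∨ ∃ O : X.Opens, z ∈ O ∧ ∀ z' : X, z' ∈ O → g z' = g z → z' = z := by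
  classical
  set y := g z with hy
  have hfmax : ∀ w : X, g w = y → w ⤳ z → w = z := fun w hgw hwz => by
    by_cases hw : LIso g w
    · exact (isClosed_fibre_of_lIso g hw hwz hgw).symm
    · exact hmax w hw hwz
  obtain ⟨V, hV, hyV, -⟩ := exists_isAffineOpen_mem_and_subset (x := y) (U := (⊤ : Y.Opens)) trivial
  obtain ⟨O₀, hO₀, hzO₀, hO₀V⟩ := exists_isAffineOpen_mem_and_subset (x := z) (U := g ⁻¹ᵁ V) hyV
  haveI : IsNoetherianRing Γ(X, O₀) := IsLocallyNoetherian.component_noetherian ⟨O₀, hO₀⟩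
  haveI : NoetherianSpace (O₀ : Scheme.{u}) := hO₀.isoSpec.inv.homeomorph.symm.isClosedEmbedding.isInducing.noetherianSpace
  let T : Set (O₀ : Scheme.{u}) := {a | ¬ LIso g a.1}
  have hT : IsClosed T := by
    rw [← isOpen_compl_iff, isOpen_iff_forall_mem_open]
    intro a ha
    obtain ⟨W, haW, hW'⟩ := not_not.1 ha
    exact ⟨Subtype.val ⁻¹' (W : Set X), fun b hb hbT => hbT ⟨W, hb, hW'⟩,
      W.2.preimage continuous_subtype_val, haW⟩
  obtain ⟨S, hSf, hS, hTS⟩ := NoetherianSpace.exists_finite_set_closeds_irreducible (⟨T, hT⟩ : Closeds (O₀ : Scheme.{u}))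
  let C : Set (O₀ : Scheme.{u}) := ⋃ t ∈ {t ∈ S | (⟨z, hzO₀⟩ : (O₀ : Scheme.{u})) ∉ t}, (t : Set (O₀ : Scheme.{u}))
  have hC : IsClosed C := (hSf.subset fun t ht => ht.1).isClosed_biUnion fun t _ => t.isClosed
  let O₁ : X.Opens := O₀.ι ''ᵁ ⟨Cᶜ, hC.isOpen_compl⟩
  have hzO₁ : z ∈ O₁ := ⟨⟨z, hzO₀⟩, fun hc => by
    obtain ⟨t, ht, hzt⟩ := Set.mem_iUnion₂.1 hc
    exact ht.2 hzt, rfl⟩
  obtain ⟨O, hO, hzO, hOO₁⟩ := exists_isAffineOpen_mem_and_subset (x := z) (U := O₁) hzO₁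
  have hTO : ∀ x ∈ O, ¬ LIso g x → z ⤳ x := fun x hxO hx => by
    obtain ⟨a, ha, rfl⟩ := hOO₁ hxO
    have haT : a ∈ (sSup S : Closeds (O₀ : Scheme.{u})) := hTS ▸ (show a ∈ (⟨T, hT⟩ : Closeds (O₀ : Scheme.{u})) from hx)
    rw [← SetLike.mem_coe, ← hSf.coe_toFinset, ← Finset.sup_id_eq_sSup, Closeds.coe_finset_sup] at haT
    simp only [Function.comp, id, Finset.sup_eq_iSup, Set.iSup_eq_iUnion, Set.mem_iUnion] at haT
    obtain ⟨t, htS, hat⟩ := haT
    rw [Set.Finite.mem_toFinset] at htS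
    have hzt : (⟨z, hzO₀⟩ : (O₀ : Scheme.{u})) ∈ t := by
      by_contra hc
      exact ha (Set.mem_iUnion₂.2 ⟨t, ⟨htS, hc⟩, hat⟩)
    have hti : IsIrreducible (t : Set (O₀ : Scheme.{u})) := hS t htS
    have hg' := hti.isGenericPoint_genericPoint_closure
    rw [t.isClosed.closure_eq] at hg'
    have hηT : hti.genericPoint ∈ T :=
      (show t ≤ (⟨T, hT⟩ : Closeds (O₀ : Scheme.{u})) from hTS ▸ le_sSup htS) hg'.mem
    have hηz : (hti.genericPoint).1 = z := hmax _ hηT
      ((hg'.specializes hzt).map continuous_subtype_val)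
    exact hηz ▸ (hg'.specializes hat).map continuous_subtype_val
  let Y' : Y.Opens := ⟨(closure {y})ᶜ, isClosed_closure.isOpen_compl⟩
  let O' : X.Opens := O ⊓ g ⁻¹ᵁ Y'
  by_cases hisol : ∀ z' : X, z' ∈ O → g z' = y → z ⤳ z' → z' = z
  · right
    -- the other points of the fibre near z form a finite set
    let F : Set (O₀ : Scheme.{u}) := {a | a.1 ∈ O ∧ g a.1 = y ∧ a.1 ≠ z}
    have hF : ∀ a ∈ F, LIso g a.1 := fun a ha => by
      by_contra hc
      exact ha.2.2 (hisol a.1 ha.1 ha.2.1 (hTO a.1 ha.1 hc))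
    haveI : DiscreteTopology F := discreteTopology_iff_isOpen_singleton.2 fun a => by
      obtain ⟨W, haW, hW'⟩ := exists_open_immersion (hF a.1 a.2)
      have : ({a} : Set F) = (fun b : F => b.1.1) ⁻¹' (W : Set X) := by
        ext b
        refine ⟨fun e => by rw [Set.mem_singleton_iff.1 e]; exact haW, fun hb => ?_⟩
        have e := congrArg Subtype.val ((W.ι ≫ g).isOpenEmbedding.injective
          (a₁ := ⟨b.1.1, hb⟩) (a₂ := ⟨a.1.1, haW⟩) (b.2.2.1.trans a.2.2.1.symm))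
        exact Subtype.ext (Subtype.ext e)
      rw [this]
      exact W.2.preimage (continuous_subtype_val.comp continuous_subtype_val)
    have hFf : F.Finite := Set.finite_coe_iff.1 NoetherianSpace.finite
    let D : Set X := ⋃ x ∈ Subtype.val '' F, closure {x}
    have hD : IsClosed D := (hFf.image _).isClosed_biUnion fun _ _ => isClosed_closure
    refine ⟨O ⊓ ⟨Dᶜ, hD.isOpen_compl⟩, ⟨hzO, fun hzD => ?_⟩, fun z' hz' hgz' => ?_⟩
    · obtain ⟨x, ⟨a, ha, rfl⟩, hax⟩ := Set.mem_iUnion₂.1 hzD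
      exact ha.2.2 (hfmax _ ha.2.1 (specializes_iff_mem_closure.2 hax))
    · by_contra hne
      obtain ⟨a, -, ha⟩ := hOO₁ hz'.1
      exact hz'.2 (Set.mem_iUnion₂.2 ⟨z', ⟨a, by
        subst ha; exact ⟨hz'.1, hgz', hne⟩, ha⟩, subset_closure rfl⟩)
  · left
    push Not at hisol
    obtain ⟨z', hz', hgz', hsp, hne⟩ := hisol
    have hOV : O ≤ g ⁻¹ᵁ V := fun x hx => by
      obtain ⟨a, -, rfl⟩ := hOO₁ hx
      exact hO₀V a.2
    haveI : IsLocalIso (O'.ι ≫ g) := ⟨fun a => by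
      have hl : LIso g a.1 := by
        by_contra hc
        exact a.2.2 (specializes_iff_mem_closure.1 ((hTO a.1 a.2.1 hc).map g.continuous))
      obtain ⟨W, haW, hW'⟩ := exists_open_immersion hl
      refine ⟨O'.ι ⁻¹ᵁ W, haW, ?_⟩
      rw [← morphismRestrict_ι_assoc]
      infer_instance⟩
    haveI : IsSeparated (O'.ι ≫ g) := by
      haveI : IsAffine (O : Scheme.{u}) := hO
      haveI : IsSeparated (O.ι ≫ g) := by
        haveI : IsSeparated ((O.ι ≫ g) ≫ terminal.from Y) := by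
          rw [show (O.ι ≫ g) ≫ terminal.from Y = terminal.from _ from terminalIsTerminal.hom_ext _ _]
          infer_instance
        exact IsSeparated.of_comp (O.ι ≫ g) (terminal.from Y)
      rw [← Scheme.homOfLE_ι X (inf_le_left : O' ≤ O), Category.assoc]
      infer_instance
    haveI : IsOpenImmersion ((O ⊓ g ⁻¹ᵁ Y').ι ≫ g) := by
      refine PurBirLib.isOpenImmersion_of_injective (O'.ι ≫ g) ?_
      by_cases hne' : Nonempty (O' : Scheme.{u})
      · haveI : IrreducibleSpace (O' : Scheme.{u}) := by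
          haveI : Nonempty O' := hne'
          have : IsIrreducible (O' : Set X) := ⟨Set.nonempty_coe_sort.1 hne',
            (PreirreducibleSpace.isPreirreducible_univ (X := X)).open_subset O'.2 (Set.subset_univ _)⟩
          exact { toPreirreducibleSpace := Subtype.preirreducibleSpace this.2, toNonempty := hne' }
        exact injective_of_isSeparated _
      · exact fun a => (hne' ⟨a⟩).elim
    exact dim_le_one g y Y' (fun p hp hne hc => hne (hp.antisymm (specializes_iff_mem_closure.2 hc)).eq)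
      (fun hc => hc (subset_closure rfl)) hO hV hOV hW z z' hzO hz' rfl hgz' hsp (Ne.symm hne) hfmax

end PurWLib

end
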