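import Groth.Prelude.Def_FEt
import Groth.Agent.S5161

/-!
# Purity under condition (W): the local statement
-/

set_option autoImplicit false
set_option maxHeartbeats 1600000
set_option maxRecDepth 8000
set_option linter.style.haveILetI false
set_option backward.isDefEq.respectTransparency false
universe u

open CategoryTheory CategoryTheory.Limits AlgebraicGeometry TopologicalSpace

noncomputable section

namespace PurWLib

/-- Condition (W) on a local ring. -/
def CondW (A : Type u) [CommRing A] [IsLocalRing A] : Prop :=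
  ∀ U : (Spec (CommRingCat.of A)).Opens, ∀ hU : U ≤ FEt.puncturedSpec A,
    (∀ T ∈ irreducibleComponents ↥(FEt.puncturedSpec A), ¬ Subtype.val '' T ⊆ (U : Set _)) →
    IsAffineHom ((Spec (CommRingCat.of A)).homOfLE hU) → IsAffineOpen U

/-- No prime lies strictly between `w` and a prime minimal over `w + (h)`. -/
theorem not_between {B : Type u} [CommRing B] [IsNoetherianRing B] {w P q : Ideal B} [w.IsPrime]
    [P.IsPrime] {h : B} (hq : q ∈ (w ⊔ Ideal.span {h}).minimalPrimes) (hwP : w < P) (hPq : P < q) : False := by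
  haveI := hq.1.1
  let π := Ideal.Quotient.mk w
  have hπ : Function.Surjective π := Ideal.Quotient.mk_surjective
  have hker : RingHom.ker π = w := Ideal.mk_ker
  have hcm : ∀ I : Ideal B, w ≤ I → (I.map π).comap π = I := fun I hI => by
    rw [Ideal.comap_map_of_surjective _ hπ, ← RingHom.ker_eq_comap_bot, hker, sup_eq_left.2 hI]
  haveI : (q.map π).IsPrime := Ideal.map_isPrime_of_surjective hπ (by rw [hker]; exact (hwP.trans hPq).le)
  haveI : (P.map π).IsPrime := Ideal.map_isPrime_of_surjective hπ (by rw [hker]; exact hwP.le)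
  have hmin : q.map π ∈ (Ideal.span {π h}).minimalPrimes := by
    refine ⟨⟨inferInstance, (Ideal.span_singleton_le_iff_mem _).2 (Ideal.mem_map_of_mem _
      (hq.1.2 (Ideal.mem_sup_right (Ideal.mem_span_singleton_self h))))⟩, fun I hI hle => ?_⟩
    haveI := hI.1
    have h1 : q ≤ I.comap π := hq.2 ⟨Ideal.IsPrime.comap π, sup_le (fun a ha => by
        rw [Ideal.mem_comap, show π a = 0 from Ideal.Quotient.eq_zero_iff_mem.2 ha]; exact zero_mem _)
      ((Ideal.span_singleton_le_iff_mem _).2 (hI.2 (Ideal.mem_span_singleton_self _)))⟩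
      (le_of_le_of_eq (Ideal.comap_mono hle) (hcm q (hwP.trans hPq).le))
    exact Ideal.map_le_iff_le_comap.2 h1
  have h1 := Ideal.height_le_one_of_isPrincipal_of_mem_minimalPrimes (Ideal.span {π h}) _ hmin
  have h2 : (P.map π).height < (q.map π).height := Ideal.height_strict_mono_of_isPrime
    (lt_of_le_of_ne (Ideal.map_mono hPq.le) fun e => hPq.ne (by
      rw [← hcm P hwP.le, e, hcm q (hwP.trans hPq).le]))
  have h3 : (⊥ : Ideal (B ⧸ w)).height < (P.map π).height := Ideal.height_strict_mono_of_isPrime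
    (bot_lt_iff_ne_bot.2 fun e => hwP.ne (by
      rw [← hcm P hwP.le, e, ← RingHom.ker_eq_comap_bot, hker]))
  have h4 : (P.map π).height < 1 := h2.trans_le h1
  rw [ENat.lt_one_iff_eq_zero] at h4
  rw [h4] at h3
  exact not_lt_bot h3

variable {A B : Type u} [CommRing A] [IsNoetherianRing A] [IsLocalRing A] [CommRing B] [IsNoetherianRing B]

theorem height_le_one (φ : A →+* B)
    [IsOpenImmersion (Spec.map (CommRingCat.ofHom φ) ∣_ FEt.puncturedSpec A)] (hW : CondW A)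
    (q : Ideal B) [q.IsPrime] (hq : q ∈ ((IsLocalRing.maximalIdeal A).map φ).minimalPrimes)
    (q' : Ideal B) [q'.IsPrime] (hlt : q < q') : q.height ≤ 1 := by
  classical
  set m := IsLocalRing.maximalIdeal A
  let g := Spec.map (CommRingCat.ofHom φ)
  let P := FEt.puncturedSpec A
  haveI : IsNoetherianRing (CommRingCat.of A) := inferInstanceAs (IsNoetherianRing A)
  haveI : IsNoetherianRing (CommRingCat.of B) := inferInstanceAs (IsNoetherianRing B)
  have hmem : ∀ x : PrimeSpectrum B, (x : Spec (CommRingCat.of B)) ∈ g ⁻¹ᵁ P ↔ ¬ m.map φ ≤ x.asIdeal := by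
    intro x
    show ¬ (PrimeSpectrum.comap φ x = IsLocalRing.closedPoint A) ↔ _
    refine not_congr ⟨fun e => ?_, fun h => ?_⟩
    · rw [Ideal.map_le_iff_le_comap]
      exact (congrArg PrimeSpectrum.asIdeal e).ge
    · exact PrimeSpectrum.ext ((IsLocalRing.maximalIdeal.isMaximal A).eq_of_le
        (Ideal.IsPrime.ne_top inferInstance) (Ideal.map_le_iff_le_comap.1 h)).symm
  have hqm : m.map φ ≤ q := hq.1.2
  let S₀ : Set (Ideal B) :=
    {I | I ∈ (m.map φ).minimalPrimes ∧ I ≠ q} ∪ {w | w ∈ minimalPrimes B ∧ ¬ w ≤ q}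
  have hS₀ : S₀.Finite := ((Ideal.finite_minimalPrimes_of_isNoetherianRing B _).subset fun I hI => hI.1).union
    ((Ideal.finite_minimalPrimes_of_isNoetherianRing B ⊥).subset fun I hI => hI.1)
  obtain ⟨h₀, hh₀, hh₀q⟩ : ∃ h₀, h₀ ∈ hS₀.toFinset.inf id ∧ h₀ ∉ q := by
    refine SetLike.not_le_iff_exists.1 fun hle => ?_
    obtain ⟨I, hI, hIq⟩ := (Ideal.IsPrime.inf_le' inferInstance).1 hle
    rcases hS₀.mem_toFinset.1 hI with h | h
    · exact h.2 (le_antisymm hIq (hq.2 h.1.1 hIq))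
    · exact h.2 hIq
  have hh₀' : ∀ I ∈ S₀, h₀ ∈ I := fun I hI => Finset.inf_le (f := id) (hS₀.mem_toFinset.2 hI) hh₀
  let S₁ : Set (Ideal B) :=
    insert q {I | (∃ w ∈ minimalPrimes B, I ∈ (w ⊔ m.map φ).minimalPrimes) ∧ ¬ q' ≤ I}
  have hS₁ : S₁.Finite := Set.Finite.insert _
    (((Ideal.finite_minimalPrimes_of_isNoetherianRing B ⊥).biUnion fun w _ =>
      Ideal.finite_minimalPrimes_of_isNoetherianRing B (w ⊔ m.map φ)).subset fun I hI => by
        obtain ⟨w, hw, hI'⟩ := hI.1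
        exact Set.mem_iUnion₂.2 ⟨w, hw, hI'⟩)
  obtain ⟨h, hhq', hhS⟩ : ∃ h ∈ q', ∀ I ∈ S₁, h ∉ I := by
    by_contra hc
    push Not at hc
    obtain ⟨I, hI, hle⟩ := (Ideal.subset_union_prime_finite hS₁ (f := id) q q fun I hI _ _ => by
        show I.IsPrime
        rcases hI with rfl | ⟨⟨w, -, h'⟩, -⟩
        · infer_instance
        · exact h'.1.1).1 (fun a ha => Set.mem_iUnion₂.2 (by
          obtain ⟨I, hI, haI⟩ := hc a ha
          exact ⟨I, hI, haI⟩) : (q' : Set B) ⊆ _)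
    rcases hI with rfl | hI
    · exact hlt.not_ge hle
    · exact hI.2 hle
  have hhq : h * h₀ ∉ q := fun hc => (Ideal.IsPrime.mem_or_mem inferInstance hc).elim
    (hhS q (Set.mem_insert _ _)) hh₀q
  let O : (Spec (CommRingCat.of B)).Opens :=
    (Spec (CommRingCat.of B)).basicOpen ((Scheme.ΓSpecIso (CommRingCat.of B)).inv (h * h₀))
  have hO : ∀ x : PrimeSpectrum B, (x : Spec (CommRingCat.of B)) ∈ O ↔ h * h₀ ∉ x.asIdeal := fun x => by
    show (x : Spec (CommRingCat.of B)) ∈ (Spec (CommRingCat.of B)).basicOpen _ ↔ _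
    rw [basicOpen_eq_of_affine]
    rfl
  let V := (g ⁻¹ᵁ P).ι ⁻¹ᵁ O
  haveI : IsAffineHom V.ι := by
    show IsAffineHom ((g ⁻¹ᵁ P).ι ⁻¹ᵁ O).ι
    rw [show (g ⁻¹ᵁ P).ι ⁻¹ᵁ O = (g ⁻¹ᵁ P : Scheme.{u}).basicOpen _ from Scheme.preimage_basicOpen_top _ _]
    infer_instance
  haveI : IsAffineHom (g ∣_ P) := MorphismProperty.of_isPullback (P := @IsAffineHom)
    (isPullback_morphismRestrict g P).flip inferInstance
  let U := P.ι ''ᵁ ((g ∣_ P) ''ᵁ V)
  have hU : U ≤ P := by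
    rintro _ ⟨a, -, rfl⟩
    exact a.2
  have hgr : ∀ a : (g ⁻¹ᵁ P : Scheme.{u}), P.ι ((g ∣_ P) a) = g ((g ⁻¹ᵁ P).ι a) := fun a => by
    simp
  have hUaff : IsAffineHom ((Spec (CommRingCat.of A)).homOfLE hU) := by
    let e₁ := (g ∣_ P).isoImage V
    let e₂ := P.ι.isoImage ((g ∣_ P) ''ᵁ V)
    have : (Spec (CommRingCat.of A)).homOfLE hU = (e₁ ≪≫ e₂).inv ≫ V.ι ≫ (g ∣_ P) := by
      rw [Iso.eq_inv_comp, ← cancel_mono P.ι]
      simp only [Category.assoc, Scheme.homOfLE_ι, Iso.trans_hom]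
      show e₁.hom ≫ e₂.hom ≫ (P.ι ''ᵁ ((g ∣_ P) ''ᵁ V)).ι = _
      rw [Scheme.Hom.isoImage_hom_ι, Scheme.Hom.isoImage_hom_ι_assoc]
    rw [this]
    infer_instance
  have hinj : Function.Injective (g ∣_ P) := (g ∣_ P).isOpenEmbedding.injective
  have hcomp : ∀ T ∈ irreducibleComponents ↥P, ¬ Subtype.val '' T ⊆ (U : Set _) := by
    intro T hT hTU
    have hTc : IsClosed T := isClosed_of_mem_irreducibleComponents T hT
    have hTi : IsIrreducible T := hT.1
    haveI : QuasiSober ↥P := inferInstanceAs (QuasiSober (P : Scheme.{u}))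
    let t := hTi.genericPoint
    have htT : T = closure {t} := by
      have := hTi.isGenericPoint_genericPoint_closure
      rw [hTc.closure_eq] at this
      exact this.symm
    obtain ⟨b, ⟨a, haV, rfl⟩, hb⟩ := hTU ⟨t, htT ▸ subset_closure rfl, rfl⟩
    have hat : (g ∣_ P) a = t := Subtype.ext hb
    let x : PrimeSpectrum B := (g ⁻¹ᵁ P).ι a
    have hxm : ¬ m.map φ ≤ x.asIdeal := (hmem x).1 a.2
    have hxO : h * h₀ ∉ x.asIdeal := (hO x).1 haV
    have hxmin : x.asIdeal ∈ minimalPrimes B := by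
      refine ⟨⟨x.2, bot_le⟩, fun w hw hle => ?_⟩
      let w' : PrimeSpectrum B := ⟨w, hw.1⟩
      have hw'P : (w' : Spec (CommRingCat.of B)) ∈ g ⁻¹ᵁ P := (hmem w').2 fun hc => hxm (hc.trans hle)
      let a' : (g ⁻¹ᵁ P : Scheme.{u}) := ⟨w', hw'P⟩
      have hsp : a' ⤳ a := Topology.IsInducing.subtypeVal.specializes_iff.1 ((PrimeSpectrum.le_iff_specializes w' x).1 hle)
      have hsp' : (g ∣_ P) a' ⤳ t := hat ▸ hsp.map (g ∣_ P).continuous
      have hsub : T ⊆ closure {(g ∣_ P) a'} := htT ▸ closure_minimal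
        (Set.singleton_subset_iff.2 (specializes_iff_mem_closure.1 hsp')) isClosed_closure
      have heq := le_antisymm hsub (hT.2 isIrreducible_singleton.closure hsub)
      have ht' : (g ∣_ P) a' = t :=
        (specializes_iff_mem_closure.2 (show t ∈ closure {(g ∣_ P) a'} from heq ▸ htT ▸ subset_closure rfl)).antisymm
          (specializes_iff_mem_closure.2 (show (g ∣_ P) a' ∈ closure {t} from htT ▸ heq.symm ▸ subset_closure rfl)) |>.eq
      have : a' = a := hinj (ht'.trans hat.symm)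
      exact le_of_eq (congrArg (fun z : (g ⁻¹ᵁ P : Scheme.{u}) => ((g ⁻¹ᵁ P).ι z : PrimeSpectrum B).asIdeal) this).symm
    haveI := x.2
    have hxq : x.asIdeal ≤ q := by
      by_contra hc
      exact hxO (Ideal.mul_mem_left _ _ (hh₀' _ (Or.inr ⟨hxmin, hc⟩)))
    have hxq1 : x.asIdeal < q := lt_of_le_of_ne hxq fun e => hxm (e ▸ hqm)
    obtain ⟨q₁, hq₁, hq₁le⟩ := Ideal.exists_minimalPrimes_le (I := x.asIdeal ⊔ Ideal.span {h}) (J := q')
      (sup_le (hxq.trans hlt.le) ((Ideal.span_singleton_le_iff_mem _).2 hhq'))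
    haveI := hq₁.1.1
    have hhq₁ : h ∈ q₁ := hq₁.1.2 (Ideal.mem_sup_right (Ideal.mem_span_singleton_self h))
    have hnm : ¬ m.map φ ≤ q₁ := fun hc => by
      obtain ⟨P₂, hP₂, hP₂le⟩ := Ideal.exists_minimalPrimes_le (I := x.asIdeal ⊔ m.map φ) (J := q₁)
        (sup_le (le_sup_left.trans hq₁.1.2) hc)
      haveI := hP₂.1.1
      have hlt₂ : x.asIdeal < P₂ := lt_of_le_of_ne (le_sup_left.trans hP₂.1.2) fun e =>
        hxm (e ▸ le_sup_right.trans hP₂.1.2)
      have heq₂ : P₂ = q₁ := (eq_or_lt_of_le hP₂le).resolve_right fun hlt' => not_between hq₁ hlt₂ hlt'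
      have hq'le : q' ≤ P₂ := by
        by_contra hc'
        exact hhS P₂ (Set.mem_insert_of_mem _ ⟨⟨_, hxmin, hP₂⟩, hc'⟩) (heq₂ ▸ hhq₁)
      have : q₁ = q' := le_antisymm hq₁le (heq₂ ▸ hq'le)
      exact not_between hq₁ hxq1 (this ▸ hlt)
    let y : PrimeSpectrum B := ⟨q₁, inferInstance⟩
    let c : (g ⁻¹ᵁ P : Scheme.{u}) := ⟨y, (hmem y).2 hnm⟩
    have hsp : a ⤳ c := Topology.IsInducing.subtypeVal.specializes_iff.1
      ((PrimeSpectrum.le_iff_specializes x y).1 (le_sup_left.trans hq₁.1.2))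
    have hcT : (g ∣_ P) c ∈ T := htT ▸ specializes_iff_mem_closure.1 (hat ▸ hsp.map (g ∣_ P).continuous)
    obtain ⟨_, ⟨d, hdV, rfl⟩, hd⟩ := hTU ⟨_, hcT, rfl⟩
    have hdc : d = c := hinj (Subtype.ext hd)
    exact (hO y).1 (hdc ▸ hdV : c ∈ V) (Ideal.mul_mem_right _ _ hhq₁)
  have hA : IsAffineOpen U := hW U hU hcomp hUaff
  have hV : IsAffineOpen V :=
    (g ∣_ P).isAffineOpen_iff_of_isOpenImmersion.1 (P.ι.isAffineOpen_iff_of_isOpenImmersion.1 hA)
  have hW' : IsAffineOpen ((g ⁻¹ᵁ P).ι ''ᵁ V) := hV.image_of_isOpenImmersion _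
  have hWmem : ∀ z : PrimeSpectrum B, (z : Spec (CommRingCat.of B)) ∈ (g ⁻¹ᵁ P).ι ''ᵁ V ↔
      ¬ m.map φ ≤ z.asIdeal ∧ h * h₀ ∉ z.asIdeal := fun z => by
    rw [← hmem z, ← hO z, Scheme.Hom.image_preimage_eq_opensRange_inf, Scheme.Opens.opensRange_ι]
    rfl
  refine Groth.Agent.S5161.result B _ hW' ⟨q, inferInstance⟩ (fun hc => ((hWmem _).1 hc).1 hqm)
    fun z hz hzW => PrimeSpectrum.ext (le_antisymm hz ?_)
  have hzm : m.map φ ≤ z.asIdeal := by
    by_contra hc
    exact hzW ((hWmem z).2 ⟨hc, fun h' => hhq (hz h')⟩)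
  exact hq.2 ⟨z.2, hzm⟩ hz

end PurWLib

end
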