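import Groth.Agent.PurWLib.Local
import Groth.Agent.AffCodimLib.Scheme

/-!
# Purity under condition (W): reduction to the local statement
-/

set_option autoImplicit false
set_option maxHeartbeats 1600000
set_option maxRecDepth 8000
set_option linter.style.haveILetI false
set_option backward.isDefEq.respectTransparency false
universe u

open CategoryTheory CategoryTheory.Limits AlgebraicGeometry TopologicalSpace

noncomputable section

namespace PurWLib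

theorem isOpenImmersion_restrict_baseChange {X Y X' Y' : Scheme.{u}} {f : X ⟶ Y} {f' : X' ⟶ Y'}
    {qX : X' ⟶ X} {qY : Y' ⟶ Y} (H : IsPullback f' qX qY f) (U : Y.Opens) (U' : Y'.Opens)
    (hU : U' = qY ⁻¹ᵁ U) [IsOpenImmersion (f ∣_ U)] : IsOpenImmersion (f' ∣_ U') := by
  subst hU
  let v : (f' ⁻¹ᵁ (qY ⁻¹ᵁ U) : Scheme.{u}) ⟶ (f ⁻¹ᵁ U : Scheme.{u}) :=
    IsOpenImmersion.lift (f ⁻¹ᵁ U).ι ((f' ⁻¹ᵁ (qY ⁻¹ᵁ U)).ι ≫ qX) (by
      rintro _ ⟨a, rfl⟩
      rw [Scheme.Opens.range_ι]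
      show f (qX a.1) ∈ U
      have e : qY (f' a.1) = f (qX a.1) := congrArg (fun φ : X' ⟶ Y => φ a.1) H.w
      exact e ▸ a.2)
  have hv : v ≫ (f ⁻¹ᵁ U).ι = (f' ⁻¹ᵁ (qY ⁻¹ᵁ U)).ι ≫ qX := IsOpenImmersion.lift_fac _ _ _
  have s : IsPullback (f' ∣_ (qY ⁻¹ᵁ U)) (v ≫ (f ⁻¹ᵁ U).ι) ((qY ∣_ U) ≫ U.ι) f := by
    rw [hv, morphismRestrict_ι qY U]
    exact (isPullback_morphismRestrict f' (qY ⁻¹ᵁ U)).paste_vert H
  have t := IsPullback.of_bot s (by
    rw [← cancel_mono U.ι]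
    simp only [Category.assoc, morphismRestrict_ι]
    rw [reassoc_of% hv, morphismRestrict_ι_assoc, H.w]) (isPullback_morphismRestrict f U)
  exact MorphismProperty.of_isPullback (P := @IsOpenImmersion) t.flip inferInstance

theorem dim_le_one {X Y : Scheme.{u}} [IsLocallyNoetherian X] [IsLocallyNoetherian Y] (g : X ⟶ Y)
    (y : Y) (Y' : Y.Opens) (hY' : ∀ p : Y, p ⤳ y → p ≠ y → p ∈ Y') (hy : y ∉ Y')
    {O : X.Opens} (hO : IsAffineOpen O) {V : Y.Opens} (hV : IsAffineOpen V) (hOV : O ≤ g ⁻¹ᵁ V)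
    [IsOpenImmersion ((O ⊓ g ⁻¹ᵁ Y').ι ≫ g)] (hW : CondW (Y.presheaf.stalk y))
    (z z' : X) (hz : z ∈ O) (hz' : z' ∈ O) (gz : g z = y) (gz' : g z' = y) (hsp : z ⤳ z') (hne : z ≠ z')
    (hmax : ∀ w : X, g w = y → w ⤳ z → w = z) : ringKrullDim (X.presheaf.stalk z) ≤ 1 := by
  have hyV : y ∈ V := gz ▸ hOV hz
  haveI : IsNoetherianRing Γ(Y, V) := IsLocallyNoetherian.component_noetherian ⟨V, hV⟩
  haveI : IsNoetherianRing Γ(X, O) := IsLocallyNoetherian.component_noetherian ⟨O, hO⟩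
  letI := TopCat.Presheaf.algebra_section_stalk Y.presheaf (⟨y, hyV⟩ : V)
  haveI := hV.isLocalization_stalk ⟨y, hyV⟩
  let p := (hV.primeIdealOf ⟨y, hyV⟩).asIdeal
  let A := Y.presheaf.stalk y
  let φ₀ : Γ(Y, V) →+* Γ(X, O) := (g.appLE V O hOV).hom
  let B := Localization (p.primeCompl.map φ₀)
  haveI : IsNoetherianRing B := IsLocalization.isNoetherianRing (p.primeCompl.map φ₀) B inferInstance
  let φ : A →+* B := IsLocalization.map B φ₀ (Submonoid.le_comap_map p.primeCompl)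
  have H : φ.comp (algebraMap _ A) = (algebraMap _ B).comp φ₀ := IsLocalization.map_comp _
  have PB := (isPullback_SpecMap_of_isPushout _ _ _ _
    (CommRingCat.isPushout_of_isLocalization φ₀ φ H p.primeCompl)).flip
  let g₀ := Spec.map (g.appLE V O hOV)
  have hg₀ : g₀ ≫ hV.fromSpec = hO.fromSpec ≫ g := IsAffineOpen.SpecMap_appLE_fromSpec g hV hO hOV
  let U₀ := hV.fromSpec ⁻¹ᵁ Y'
  haveI : IsOpenImmersion (g₀ ∣_ U₀) := by
    have hmem : ∀ a : (g₀ ⁻¹ᵁ U₀ : Scheme.{u}), g (hO.fromSpec a.1) ∈ Y' := fun a => by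
      have e : hV.fromSpec (g₀ a.1) = g (hO.fromSpec a.1) := congrArg (fun φ : Spec Γ(X, O) ⟶ Y => φ a.1) hg₀
      exact e ▸ a.2
    let l := IsOpenImmersion.lift (O ⊓ g ⁻¹ᵁ Y').ι ((g₀ ⁻¹ᵁ U₀).ι ≫ hO.fromSpec) (by
      rintro _ ⟨a, rfl⟩
      rw [Scheme.Opens.range_ι]
      exact ⟨hO.range_fromSpec.subset ⟨a.1, rfl⟩, hmem a⟩)
    have hl : l ≫ (O ⊓ g ⁻¹ᵁ Y').ι = (g₀ ⁻¹ᵁ U₀).ι ≫ hO.fromSpec := IsOpenImmersion.lift_fac _ _ _
    haveI : IsOpenImmersion (l ≫ (O ⊓ g ⁻¹ᵁ Y').ι) := by rw [hl]; infer_instance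
    haveI : IsOpenImmersion l := IsOpenImmersion.of_comp l (O ⊓ g ⁻¹ᵁ Y').ι
    have e : (g₀ ∣_ U₀) ≫ U₀.ι ≫ hV.fromSpec = l ≫ (O ⊓ g ⁻¹ᵁ Y').ι ≫ g := by
      rw [morphismRestrict_ι_assoc, hg₀, reassoc_of% hl]
    haveI : IsOpenImmersion ((g₀ ∣_ U₀) ≫ U₀.ι ≫ hV.fromSpec) := by rw [e]; infer_instance
    exact IsOpenImmersion.of_comp (g₀ ∣_ U₀) (U₀.ι ≫ hV.fromSpec)
  have hP : FEt.puncturedSpec A = Spec.map (CommRingCat.ofHom (algebraMap Γ(Y, V) A)) ⁻¹ᵁ U₀ := by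
    refine Opens.ext (Set.ext fun Q => ?_)
    have e : hV.fromSpec (Spec.map (CommRingCat.ofHom (algebraMap Γ(Y, V) A)) Q) = Y.fromSpecStalk y Q :=
      congrArg (fun φ : Spec A ⟶ Y => φ Q) (hV.fromSpecStalk_eq_fromSpecStalk hyV)
    show Q ≠ IsLocalRing.closedPoint A ↔ hV.fromSpec (Spec.map (CommRingCat.ofHom (algebraMap Γ(Y, V) A)) Q) ∈ Y'
    rw [e]
    refine ⟨fun h => hY' _ ?_ fun hQ => h ?_, fun h hQ => ?_⟩
    · exact (Y.range_fromSpecStalk (x := y)).le ⟨Q, rfl⟩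
    · exact (Y.fromSpecStalk y).isEmbedding.injective (hQ.trans Scheme.fromSpecStalk_closedPoint.symm)
    · subst hQ
      rw [Scheme.fromSpecStalk_closedPoint] at h
      exact hy h
  haveI : IsOpenImmersion (Spec.map (CommRingCat.ofHom φ) ∣_ FEt.puncturedSpec A) :=
    isOpenImmersion_restrict_baseChange PB U₀ _ hP
  have hcomap : ∀ (w : X) (hw : w ∈ O), g w = y →
      (hO.primeIdealOf ⟨w, hw⟩).asIdeal.comap φ₀ = p := fun w hw gw => by
    have e : g₀ (hO.primeIdealOf ⟨w, hw⟩) = hV.primeIdealOf ⟨y, hyV⟩ := by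
      refine hV.fromSpec.isOpenEmbedding.injective ?_
      rw [hV.fromSpec_primeIdealOf, ← Scheme.Hom.comp_apply, hg₀, Scheme.Hom.comp_apply, hO.fromSpec_primeIdealOf]
      exact gw
    exact congrArg PrimeSpectrum.asIdeal e
  let Z := hO.primeIdealOf ⟨z, hz⟩
  let Z' := hO.primeIdealOf ⟨z', hz'⟩
  have hZ : Z.asIdeal.comap φ₀ = p := hcomap z hz gz
  have hZ' : Z'.asIdeal.comap φ₀ = p := hcomap z' hz' gz'
  have hdis : ∀ I : Ideal Γ(X, O), I.comap φ₀ = p → Disjoint (p.primeCompl.map φ₀ : Set Γ(X, O)) I := fun I hI => by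
    rw [Set.disjoint_left]
    rintro _ ⟨a, ha, rfl⟩ h
    exact ha (hI.le (show a ∈ I.comap φ₀ from h))
  have hd := hdis _ hZ
  have hd' := hdis _ hZ'
  haveI hq : (Z.asIdeal.map (algebraMap _ B)).IsPrime :=
    IsLocalization.isPrime_of_isPrime_disjoint (p.primeCompl.map φ₀) B _ Z.2 hd
  haveI hq' : (Z'.asIdeal.map (algebraMap _ B)).IsPrime :=
    IsLocalization.isPrime_of_isPrime_disjoint (p.primeCompl.map φ₀) B _ Z'.2 hd'
  have hu : (Z.asIdeal.map (algebraMap _ B)).under Γ(X, O) = Z.asIdeal :=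
    IsLocalization.under_map_of_isPrime_disjoint (p.primeCompl.map φ₀) B Z.2 hd
  have hu' : (Z'.asIdeal.map (algebraMap _ B)).under Γ(X, O) = Z'.asIdeal :=
    IsLocalization.under_map_of_isPrime_disjoint (p.primeCompl.map φ₀) B Z'.2 hd'
  have hle : Z.asIdeal ≤ Z'.asIdeal := (PrimeSpectrum.le_iff_specializes Z Z').2
    (hO.fromSpec.isOpenEmbedding.isInducing.specializes_iff.1 (by
      rw [hO.fromSpec_primeIdealOf, hO.fromSpec_primeIdealOf]; exact hsp))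
  have hlt : Z.asIdeal.map (algebraMap _ B) < Z'.asIdeal.map (algebraMap _ B) := by
    refine lt_of_le_of_ne (Ideal.map_mono hle) fun e => hne ?_
    have : Z = Z' := PrimeSpectrum.ext (by rw [← hu, ← hu', e])
    have := congrArg hO.fromSpec this
    rwa [hO.fromSpec_primeIdealOf, hO.fromSpec_primeIdealOf] at this
  have hm : IsLocalRing.maximalIdeal A = p.map (algebraMap _ A) :=
    (IsLocalization.AtPrime.map_eq_maximalIdeal p A).symm
  have hmin : Z.asIdeal.map (algebraMap _ B) ∈ ((IsLocalRing.maximalIdeal A).map φ).minimalPrimes := by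
    rw [hm, Ideal.map_map, H, ← Ideal.map_map]
    refine ⟨⟨hq, Ideal.map_mono (Ideal.map_le_iff_le_comap.2 hZ.ge)⟩, fun I hI hIle => ?_⟩
    haveI := hI.1
    have h1 : I.comap (algebraMap _ B) ≤ Z.asIdeal := (Ideal.comap_mono hIle).trans hu.le
    let w : PrimeSpectrum Γ(X, O) := ⟨I.comap (algebraMap _ B), inferInstance⟩
    have h2 : (I.comap (algebraMap _ B)).comap φ₀ = p := le_antisymm ((Ideal.comap_mono h1).trans hZ.le)
      (Ideal.map_le_iff_le_comap.1 (Ideal.map_le_iff_le_comap.1 hI.2))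
    have hgw : g (hO.fromSpec w) = y := by
      rw [← Scheme.Hom.comp_apply, ← hg₀, Scheme.Hom.comp_apply,
        show g₀ w = hV.primeIdealOf ⟨y, hyV⟩ from PrimeSpectrum.ext h2, hV.fromSpec_primeIdealOf]
    have hwz : hO.fromSpec w ⤳ z := by
      have := ((PrimeSpectrum.le_iff_specializes w Z).1 h1).map hO.fromSpec.continuous
      rwa [hO.fromSpec_primeIdealOf] at this
    have e : w = Z := hO.fromSpec.isOpenEmbedding.injective
      ((hmax _ hgw hwz).trans (hO.fromSpec_primeIdealOf ⟨z, hz⟩).symm)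
    refine le_of_eq ?_
    have e' : I.under Γ(X, O) = Z.asIdeal := congrArg PrimeSpectrum.asIdeal e
    rw [← IsLocalization.map_under (p.primeCompl.map φ₀) B I, e']
  have h := height_le_one φ hW _ hmin _ hlt
  rw [IsLocalization.height_map_of_disjoint (p.primeCompl.map φ₀) Z.asIdeal hd] at h
  have e := AffCodimLib.height_eq_stalk hO Z
  rw [hO.fromSpec_primeIdealOf] at e
  rw [← e]
  exact_mod_cast h

end PurWLib

end
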